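import Cfsg.Agent.H786.IF.Use
import Cfsg.Agent.H601.IF.NegFour

/-!
# S5719, orthogonal groups of dimension 7 and 9, `q` odd: an involution of `A` gives a fundamental one (helper520)
-/

set_option autoImplicit false
set_option linter.unusedSectionVars false

namespace Cfsg.Agent.H520.IF

open QuadraticMap Matrix Module
open Cfsg.Agent.LieClassical.OrthCore Cfsg.Agent.LieClassical.OrthTrans Cfsg.Agent.LieClassical.OrthSimple
open Cfsg.Agent.LieClassical.SLTwoUnipotent (u l coe_u coe_l)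
open Cfsg.Agent.H989.Gs.Gen
open Cfsg.Agent.H989.Fx (Fund)
open Cfsg.Agent.UGT.U2.FOne.Orth (Four)
open Cfsg.Agent.H209.Fxy (IF)

variable {F V : Type*} [Field F] [AddCommGroup V] [Module F V] {Q : QuadraticForm F V}

/-- the long `SL₂` is not commutative -/
theorem na_of_four {e₁ f₁ e₂ f₂ : V} (h : Four Q e₁ f₁ e₂ f₂) : ∃ a b : ↥(E Q), a * b ≠ b * a := by
  refine ⟨h.rhoE (u 1), h.rhoE (l 1), fun hc => ?_⟩
  rw [← map_mul, ← map_mul] at hc
  have h1 : ap (h.rhoE (u 1 * l 1)) e₁ = ap (h.rhoE (l 1 * u 1)) e₁ := by rw [hc]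
  have h3 := (h.rho_e1 (u 1 * l 1)).symm.trans (h1.trans (h.rho_e1 (l 1 * u 1)))
  have a00 : (u (1 : F) * l 1).1 0 0 = 2 := by
    change ((!![1, 1; 0, 1] : Matrix (Fin 2) (Fin 2) F) * (!![1, 0; 1, 1] : Matrix (Fin 2) (Fin 2) F)) 0 0 = 2
    simp [Matrix.mul_apply, Fin.sum_univ_two]
    norm_num
  have a10 : (u (1 : F) * l 1).1 1 0 = 1 := by
    change ((!![1, 1; 0, 1] : Matrix (Fin 2) (Fin 2) F) * (!![1, 0; 1, 1] : Matrix (Fin 2) (Fin 2) F)) 1 0 = 1
    simp [Matrix.mul_apply, Fin.sum_univ_two]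
  have b00 : (l (1 : F) * u 1).1 0 0 = 1 := by
    change ((!![1, 0; 1, 1] : Matrix (Fin 2) (Fin 2) F) * (!![1, 1; 0, 1] : Matrix (Fin 2) (Fin 2) F)) 0 0 = 1
    simp [Matrix.mul_apply, Fin.sum_univ_two]
  have b10 : (l (1 : F) * u 1).1 1 0 = 1 := by
    change ((!![1, 0; 1, 1] : Matrix (Fin 2) (Fin 2) F) * (!![1, 1; 0, 1] : Matrix (Fin 2) (Fin 2) F)) 1 0 = 1
    simp [Matrix.mul_apply, Fin.sum_univ_two]
  rw [a00, a10, b00, b10] at h3
  have h5 : e₁ = 0 := by linear_combination (norm := module) h3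
  have h6 := h.h1.pair
  rw [h5, polar_zero_left] at h6
  exact zero_ne_one h6

theorem exists_four [Finite F] (hQ : Nondeg Q) (hN : 5 ≤ finrank F V) :
    ∃ e₁ f₁ e₂ f₂ : V, Four Q e₁ f₁ e₂ f₂ := by
  have h0 : H198.IF.HS Q (![] : Fin 0 → V) (![] : Fin 0 → V) :=
    ⟨fun i => i.elim0, fun i => i.elim0, fun i => i.elim0, fun i => i.elim0, fun i => i.elim0⟩
  obtain ⟨x, y, h1⟩ := h0.exists_cons hQ (by omega)
  obtain ⟨x', y', h3⟩ := h1.exists_cons hQ (by omega)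
  exact ⟨_, _, _, _, h3.four (i := 0) (j := 1) (by decide)⟩

/-- `E Q` is not commutative -/
theorem na_E [Finite F] (hQ : Nondeg Q) (hN : 5 ≤ finrank F V) : ∃ a b : ↥(E Q), a * b ≠ b * a := by
  obtain ⟨e₁, f₁, e₂, f₂, h⟩ := exists_four hQ hN
  exact na_of_four h

theorem neg_eq_Vm' (t : ↥(E Q)) : H198.IF.Neg t = H786.IF.Vm t := rfl

/-- **an involution of `A` gives a fundamental involution of `A`** -/
theorem exists_fund [Finite F] [FiniteDimensional F V] (h2 : (2 : F) ≠ 0) (hQ : Nondeg Q) [IsSimpleGroup ↥(E Q)]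
    (hN : finrank F V = 7 ∨ finrank F V = 9) {A : Subgroup ↥(E Q)} {Γ : Subgroup (MulAut ↥(E Q))} (h : IF A Γ)
    (hno : ∀ t ∈ A, t * t = 1 → finrank F (H198.IF.Neg t) ≠ 2) {t : ↥(E Q)} (htA : t ∈ A) (ht : t * t = 1)
    (ht1 : t ≠ 1) : ∃ z ∈ A, Fund Q z := by
  have hd : 5 ≤ finrank F V := by omega
  have hfE : Finite ↥(E Q) := Cfsg.Agent.H786.IF.finite_E
  have hev := H601.OTri.neg_even h2 hQ hd ht
  by_cases h4 : finrank F (H198.IF.Neg t) = 4
  · exact ⟨t, htA, H601.OTri.fund_of_neg h2 hQ hd ht h4⟩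
  have h2' := hno t htA ht
  have h0 : finrank F (H198.IF.Neg t) ≠ 0 := by
    intro h0
    have hbot : H198.IF.Neg t = ⊥ := Submodule.finrank_eq_zero.1 h0
    apply ht1
    apply ext_ap
    intro v
    have h5 : v - ap t v ∈ H198.IF.Neg t := by
      rw [H198.IF.mem_Neg, ap_sub, ← ap_mul, ht, ap_one, neg_sub]
    rw [hbot, Submodule.mem_bot, sub_eq_zero] at h5
    rw [← h5, ap_one]
  have hsum := H786.IF.finrank_VmVp h2 ht
  rw [neg_eq_Vm'] at hev h4 h2' h0
  obtain ⟨k, hk⟩ := hev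
  have hnum : finrank F (H786.IF.Vm t) * (finrank F V - finrank F (H786.IF.Vm t)) + 1 ≤
      5 * (H786.IF.psi (finrank F (H786.IF.Vm t)) + H786.IF.psi (finrank F (H786.IF.Vp t))) := by
    rcases hN with hN | hN
    · have e1 : finrank F (H786.IF.Vm t) = 6 := by omega
      have e2 : finrank F (H786.IF.Vp t) = 1 := by omega
      rw [e1, e2, hN]
      decide
    · have e1 : finrank F (H786.IF.Vm t) = 6 ∨ finrank F (H786.IF.Vm t) = 8 := by omega
      rcases e1 with e1 | e1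
      · have e2 : finrank F (H786.IF.Vp t) = 3 := by omega
        rw [e1, e2, hN]
        decide
      · have e2 : finrank F (H786.IF.Vp t) = 1 := by omega
        rw [e1, e2, hN]
        decide
  obtain ⟨z, hz, hzA⟩ := H786.IF.use_one h2 hQ h (na_E hQ hd) (MonoidHom.id _) Function.surjective_id (t := t) htA
    (by simpa using ht1) ht hnum
  exact ⟨z, hzA, hz⟩

end Cfsg.Agent.H520.IF
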